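import Mathlib
import Cfsg.Prelude.Def_LinearParabolics

/-!
Block labels of compositions, the Bruhat decomposition of `GL_n` over a field by pivot rows, and
the count of orbits on pairs of partial flags (and of Young subgroup cosets) by margin matrices.
-/

set_option autoImplicit false

namespace Cfsg.Agent.Small.Flags

open Finset Matrix

variable {n : ℕ}

/-! ### Labels -/

/-- Cumulative sum. -/
def cumSum (μ : Fin n → ℕ) (j : Fin n) : ℕ := ∑ k ∈ univ.filter (fun k : Fin n => k ≤ j), μ k

theorem cumSum_mono (μ : Fin n → ℕ) {i j : Fin n} (h : i ≤ j) : cumSum μ i ≤ cumSum μ j := by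
  apply Finset.sum_le_sum_of_subset
  intro k hk
  simp only [mem_filter, mem_univ, true_and] at hk ⊢
  exact hk.trans h

theorem mem_iff_lt_card (s : Finset (Fin n)) (hs : ∀ i j, i ≤ j → j ∈ s → i ∈ s) (k : Fin n) :
    k ∈ s ↔ k.val < s.card := by
  constructor
  · intro hk
    have h1 : Finset.Iic k ⊆ s := fun i hi => hs i k (Finset.mem_Iic.mp hi) hk
    have h2 := Finset.card_le_card h1
    rw [Fin.card_Iic] at h2
    omega
  · intro hk
    by_contra h
    have h1 : s ⊆ Finset.Iio k := fun i hi => Finset.mem_Iio.mpr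
      (lt_of_not_ge fun hle => h (hs k i hle hi))
    have h2 := Finset.card_le_card h1
    rw [Fin.card_Iio] at h2
    omega

theorem lt_compLabel_iff (μ : Fin n → ℕ) (i k : Fin n) :
    k.val < compLabel μ i ↔ cumSum μ k ≤ i.val := by
  unfold compLabel
  rw [← mem_iff_lt_card]
  · simp [cumSum]
  · intro a b hab hb
    simp only [mem_filter, mem_univ, true_and] at hb ⊢
    exact (cumSum_mono μ hab).trans hb

theorem compLabel_mono (μ : Fin n → ℕ) : Monotone (compLabel μ) := by
  intro i j hij
  apply Finset.card_le_card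
  intro k hk
  simp only [mem_filter, mem_univ, true_and] at hk ⊢
  exact hk.trans hij

theorem compLabel_lt {μ : Fin n → ℕ} (hμ : ∑ i, μ i = n) (i : Fin n) : compLabel μ i < n := by
  by_contra h
  have hn : n - 1 < n := by have := i.2; omega
  have h1 := (lt_compLabel_iff μ i ⟨n - 1, hn⟩).mp (by simp; omega)
  have h2 : cumSum μ ⟨n - 1, hn⟩ = n := by
    have e : (univ.filter fun k : Fin n => k ≤ (⟨n - 1, hn⟩ : Fin n)) = univ := by
      apply Finset.filter_true_of_mem
      intro k _
      exact Fin.mk_le_mk.mpr (by have := k.2; omega)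
    rw [cumSum, e, hμ]
  have := i.2
  omega

/-- The block of a position, as an element of `Fin n`. -/
def lab {μ : Fin n → ℕ} (hμ : ∑ i, μ i = n) (i : Fin n) : Fin n :=
  ⟨compLabel μ i, compLabel_lt hμ i⟩

theorem lab_val {μ : Fin n → ℕ} (hμ : ∑ i, μ i = n) (i : Fin n) :
    (lab hμ i : ℕ) = compLabel μ i := rfl

theorem card_fiber {μ : Fin n → ℕ} (hμ : ∑ i, μ i = n) (k : Fin n) :
    (univ.filter fun i => lab hμ i = k).card = μ k := by
  set a := ∑ l ∈ univ.filter (fun l : Fin n => l < k), μ l with ha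
  have hC : cumSum μ k = a + μ k := by
    have e : (univ.filter fun l : Fin n => l ≤ k) =
        insert k (univ.filter fun l : Fin n => l < k) := by
      ext l; simp [le_iff_eq_or_lt]
    rw [cumSum, e, Finset.sum_insert (by simp), add_comm]
  have key : ∀ i : Fin n, lab hμ i = k ↔ a ≤ i.val ∧ i.val < a + μ k := by
    intro i
    rw [← hC, Fin.ext_iff, lab_val]
    have h1 : ¬ k.val < compLabel μ i ↔ i.val < cumSum μ k := by
      rw [lt_compLabel_iff, not_le]
    have h2 : k.val ≤ compLabel μ i ↔ a ≤ i.val := by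
      rcases Nat.eq_zero_or_pos k.val with h0 | h0
      · have : a = 0 := by
          rw [ha]
          apply Finset.sum_eq_zero
          intro l hl
          simp only [mem_filter, mem_univ, true_and, Fin.lt_def] at hl
          omega
        omega
      · have hk' : k.val - 1 < n := by have := k.2; omega
        have e : a = cumSum μ ⟨k.val - 1, hk'⟩ := by
          rw [ha, cumSum]
          apply Finset.sum_congr _ (fun _ _ => rfl)
          ext l
          simp only [mem_filter, mem_univ, true_and, Fin.lt_def, Fin.le_def]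
          omega
        rw [e, ← lt_compLabel_iff]
        change k.val ≤ compLabel μ i ↔ k.val - 1 < compLabel μ i
        omega
    rw [← h1, ← h2]
    omega
  have hle : a + μ k ≤ n := by
    rw [← hC]
    exact (Finset.sum_le_sum_of_subset (Finset.filter_subset _ _)).trans hμ.le
  rw [Finset.filter_congr (fun i _ => key i)]
  have : (univ.filter fun i : Fin n => a ≤ i.val ∧ i.val < a + μ k).map Fin.valEmbedding =
      Finset.Ico a (a + μ k) := by
    ext x
    simp only [Finset.mem_map, mem_filter, mem_univ, true_and, Fin.valEmbedding_apply,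
      Finset.mem_Ico]
    constructor
    · rintro ⟨i, hi, rfl⟩; exact hi
    · intro hx; exact ⟨⟨x, by omega⟩, hx, rfl⟩
  have := congrArg Finset.card this
  rw [Finset.card_map, Nat.card_Ico] at this
  omega

/-! ### Margin matrices -/

/-- Matrices of natural numbers with prescribed row and column sums. -/
def Margins (α μ : Fin n → ℕ) : Type :=
  {N : Fin n → Fin n → ℕ // (∀ a, ∑ b, N a b = α a) ∧ ∀ b, ∑ a, N a b = μ b}

variable {α μ : Fin n → ℕ} (hα : ∑ i, α i = n) (hμ : ∑ i, μ i = n)

/-- The block count matrix of a permutation. -/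
def cnt (w : Equiv.Perm (Fin n)) : Margins α μ :=
  ⟨fun a b => (univ.filter fun j => lab hα (w j) = a ∧ lab hμ j = b).card, by
    intro a
    rw [← card_fiber hα a, Finset.card_eq_sum_card_fiberwise (s := univ.filter fun i => lab hα i = a)
      (f := fun i => lab hμ (w.symm i)) (t := univ) (fun _ _ => by simp)]
    refine Finset.sum_congr rfl fun b _ =>
      (Finset.card_map w.toEmbedding).symm.trans (congrArg Finset.card ?_)
    ext i
    simp [Finset.mem_map_equiv]
    , by
    intro b
    rw [← card_fiber hμ b, Finset.card_eq_sum_card_fiberwise (s := univ.filter fun i => lab hμ i = b)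
      (f := fun j => lab hα (w j)) (t := univ) (fun _ _ => by simp)]
    refine Finset.sum_congr rfl fun a _ => congrArg _ ?_
    ext j
    simp [and_comm]⟩

theorem cnt_surjective : Function.Surjective (cnt hα hμ) := by
  classical
  rintro ⟨N, hr, hc⟩
  -- a map to pairs with fibre sizes `N`
  have htot : Fintype.card (Σ p : Fin n × Fin n, Fin (N p.1 p.2)) = Fintype.card (Fin n) := by
    simp only [Fintype.card_sigma, Fintype.card_fin]
    rw [Fintype.sum_prod_type]
    simp only [hr, hα]
  let e := Fintype.equivOfCardEq htot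
  let f : Fin n → Fin n × Fin n := fun j => (e.symm j).1
  have hf : ∀ p, (univ.filter fun j => f j = p).card = N p.1 p.2 := by
    intro p
    rw [← Fintype.card_subtype]
    let e' : {j // f j = p} ≃ {x : Σ p : Fin n × Fin n, Fin (N p.1 p.2) // x.1 = p} :=
      e.symm.subtypeEquiv (fun j => Iff.rfl)
    rw [Fintype.card_congr (e'.trans (Equiv.sigmaSubtype p)), Fintype.card_fin]
  have hfst : ∀ a, (univ.filter fun j => (f j).1 = a).card = α a := by
    intro a
    rw [← hr a, Finset.card_eq_sum_card_fiberwise (f := fun j => (f j).2) (t := univ)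
      (fun _ _ => by simp)]
    refine Finset.sum_congr rfl fun b _ => ?_
    rw [← hf (a, b)]
    congr 1
    ext j
    simp [Prod.ext_iff]
  have hsnd : ∀ b, (univ.filter fun j => (f j).2 = b).card = μ b := by
    intro b
    rw [← hc b, Finset.card_eq_sum_card_fiberwise (f := fun j => (f j).1) (t := univ)
      (fun _ _ => by simp)]
    refine Finset.sum_congr rfl fun a _ => ?_
    rw [← hf (a, b)]
    congr 1
    ext j
    simp [Prod.ext_iff, and_comm]
  let σ : Equiv.Perm (Fin n) := Equiv.ofFiberEquiv (f := fun j => (f j).1) (g := lab hα)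
    (fun a => Fintype.equivOfCardEq (by
      rw [Fintype.card_subtype, Fintype.card_subtype, hfst, card_fiber]))
  let τ : Equiv.Perm (Fin n) := Equiv.ofFiberEquiv (f := fun j => (f j).2) (g := lab hμ)
    (fun a => Fintype.equivOfCardEq (by
      rw [Fintype.card_subtype, Fintype.card_subtype, hsnd, card_fiber]))
  have hσ : ∀ j, lab hα (σ j) = (f j).1 := fun j => Equiv.ofFiberEquiv_map _ j
  have hτ : ∀ j, lab hμ (τ j) = (f j).2 := fun j => Equiv.ofFiberEquiv_map _ j
  refine ⟨σ * τ⁻¹, Subtype.ext ?_⟩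
  funext a b
  change (univ.filter fun j => lab hα ((σ * τ⁻¹) j) = a ∧ lab hμ j = b).card = N a b
  rw [← hf (a, b)]
  rw [← Finset.card_map τ.toEmbedding (s := univ.filter fun j => f j = (a, b))]
  congr 1
  ext j
  rw [Finset.mem_map_equiv, Finset.mem_filter, Finset.mem_filter]
  simp [Prod.ext_iff, ← hσ, ← hτ, Equiv.Perm.inv_def]

theorem mem_youngSubgroup {σ : Equiv.Perm (Fin n)} :
    σ ∈ youngSubgroup μ ↔ ∀ i, lab hμ (σ i) = lab hμ i := by
  simp only [Fin.ext_iff, lab_val]
  rfl

theorem cnt_mul {x y : Equiv.Perm (Fin n)} (hx : x ∈ youngSubgroup α) (hy : y ∈ youngSubgroup μ)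
    (w : Equiv.Perm (Fin n)) : cnt hα hμ (x * w * y) = cnt hα hμ w := by
  apply Subtype.ext
  funext a b
  change (univ.filter fun j => lab hα ((x * w * y) j) = a ∧ lab hμ j = b).card = _
  rw [← Finset.card_map y.toEmbedding]
  change _ = (univ.filter fun j => lab hα (w j) = a ∧ lab hμ j = b).card
  congr 1
  ext j
  have h1 := (mem_youngSubgroup hμ).mp hy (y.symm j)
  rw [Equiv.apply_symm_apply] at h1
  simp [Finset.mem_map_equiv, (mem_youngSubgroup hα).mp hx, ← h1]

theorem exists_of_cnt_eq {w w' : Equiv.Perm (Fin n)} (h : cnt hα hμ w = cnt hα hμ w') :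
    ∃ x ∈ youngSubgroup α, ∃ y ∈ youngSubgroup μ, w' = x * w * y := by
  classical
  let f : Fin n → Fin n × Fin n := fun j => (lab hα (w j), lab hμ j)
  let f' : Fin n → Fin n × Fin n := fun j => (lab hα (w' j), lab hμ j)
  let y : Equiv.Perm (Fin n) := Equiv.ofFiberEquiv (f := f') (g := f) (fun p =>
    Fintype.equivOfCardEq (by
      rw [Fintype.card_subtype, Fintype.card_subtype]
      have h1 := congrFun (congrFun (congrArg Subtype.val h) p.1) p.2
      simpa [cnt, f, f', Prod.ext_iff] using h1.symm))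
  have hy : ∀ j, f (y j) = f' j := fun j => Equiv.ofFiberEquiv_map _ j
  refine ⟨w' * y⁻¹ * w⁻¹, ?_, y, ?_, by group⟩
  · rw [mem_youngSubgroup hα]
    intro i
    have h1 := congrArg Prod.fst (hy (y⁻¹ (w⁻¹ i)))
    simpa [f, f'] using h1.symm
  · rw [mem_youngSubgroup hμ]
    intro i
    exact congrArg Prod.snd (hy i)

theorem finite_margins (α μ : Fin n → ℕ) : Finite (Margins α μ) := by
  let g : Margins α μ → (∀ a : Fin n, Fin n → Fin (α a + 1)) := fun N a b =>
    ⟨N.1 a b, Nat.lt_succ_of_le (by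
      rw [← N.2.1 a]
      exact Finset.single_le_sum (f := fun b => N.1 a b) (fun _ _ => Nat.zero_le _) (mem_univ b))⟩
  refine Finite.of_injective g fun N N' h => Subtype.ext ?_
  funext a b
  exact congrArg Fin.val (congrFun (congrFun h a) b)

/-! ### Orbits on pairs of cosets -/

theorem card_orbits_pairs {G : Type*} [Group G] (H K : Subgroup G) {S : Type*} (f : G → S)
    (hsurj : Function.Surjective f)
    (hiff : ∀ x y, f x = f y ↔ ∃ h ∈ H, ∃ k ∈ K, y = h * x * k) :
    Nat.card (Quotient (MulAction.orbitRel G ((G ⧸ H) × (G ⧸ K)))) = Nat.card S := by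
  let pre : (G ⧸ H) × (G ⧸ K) → S := fun p => f (p.1.out⁻¹ * p.2.out)
  have hpre : ∀ a b : G, pre ((a : G ⧸ H), (b : G ⧸ K)) = f (a⁻¹ * b) := by
    intro a b
    refine (hiff _ _).mpr ⟨a⁻¹ * (a : G ⧸ H).out, ?_, (b : G ⧸ K).out⁻¹ * b, ?_, by group⟩
    · exact QuotientGroup.eq.mp (Quotient.out_eq _).symm
    · exact QuotientGroup.eq.mp (Quotient.out_eq _)
  let Φ : Quotient (MulAction.orbitRel G ((G ⧸ H) × (G ⧸ K))) → S := Quotient.lift pre (by
    rintro ⟨p, q⟩ ⟨p', q'⟩ ⟨g, hg⟩
    induction p' using QuotientGroup.induction_on with | H a => ?_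
    induction q' using QuotientGroup.induction_on with | H b => ?_
    obtain ⟨rfl, rfl⟩ := Prod.ext_iff.mp hg.symm
    change pre ((↑(g * a) : G ⧸ H), (↑(g * b) : G ⧸ K)) = pre ((a : G ⧸ H), (b : G ⧸ K))
    rw [hpre, hpre]
    congr 1
    group)
  refine Nat.card_congr (Equiv.ofBijective Φ ⟨?_, ?_⟩)
  · intro o o'
    induction o using Quotient.inductionOn with | h p => ?_
    induction o' using Quotient.inductionOn with | h p' => ?_
    obtain ⟨p, q⟩ := p
    obtain ⟨p', q'⟩ := p'
    induction p using QuotientGroup.induction_on with | H a => ?_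
    induction q using QuotientGroup.induction_on with | H b => ?_
    induction p' using QuotientGroup.induction_on with | H a' => ?_
    induction q' using QuotientGroup.induction_on with | H b' => ?_
    intro h
    change pre _ = pre _ at h
    rw [hpre, hpre, hiff] at h
    obtain ⟨h0, hh, k, hk, e⟩ := h
    apply Quotient.sound
    refine ⟨a * h0⁻¹ * a'⁻¹, ?_⟩
    refine Prod.ext ?_ ?_
    · change ((a * h0⁻¹ * a'⁻¹ * a' : G) : G ⧸ H) = a
      rw [QuotientGroup.eq]
      simpa [mul_assoc] using hh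
    · change ((a * h0⁻¹ * a'⁻¹ * b' : G) : G ⧸ K) = b
      rw [QuotientGroup.eq, mul_assoc (a * h0⁻¹) a'⁻¹ b', e]
      simpa [mul_assoc] using K.inv_mem hk
  · intro s
    obtain ⟨g, rfl⟩ := hsurj s
    refine ⟨Quotient.mk _ (((1 : G) : G ⧸ H), (g : G ⧸ K)), ?_⟩
    change pre _ = _
    rw [hpre, inv_one, one_mul]

theorem card_orbits_young (hα : ∑ i, α i = n) (hμ : ∑ i, μ i = n) :
    Nat.card (Quotient (MulAction.orbitRel (Equiv.Perm (Fin n))
      ((Equiv.Perm (Fin n) ⧸ youngSubgroup α) × (Equiv.Perm (Fin n) ⧸ youngSubgroup μ)))) =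
      Nat.card (Margins α μ) :=
  card_orbits_pairs _ _ (cnt hα hμ) (cnt_surjective hα hμ) fun _ _ =>
    ⟨exists_of_cnt_eq hα hμ, by
      rintro ⟨x, hx, y, hy, rfl⟩
      exact (cnt_mul hα hμ hx hy _).symm⟩

/-! ### Bruhat decomposition -/

variable {F : Type*} [Field F]

/-- Permutation matrices as elements of `GL_n`. -/
def permGLn : Equiv.Perm (Fin n) →* GL (Fin n) F :=
  (Units.map (Matrix.permMatrixHom (n := Fin n) (R := F))).comp toUnits.toMonoidHom

theorem permGLn_mulVec (σ : Equiv.Perm (Fin n)) (v : Fin n → F) (i : Fin n) :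
    ((permGLn σ : GL (Fin n) F).val *ᵥ v) i = v (σ⁻¹ i) := by
  change (σ⁻¹.permMatrix F *ᵥ v) i = _
  rw [permMatrix_mulVec]
  rfl

theorem permGLn_mem {σ : Equiv.Perm (Fin n)} (h : σ ∈ youngSubgroup μ) :
    (permGLn σ : GL (Fin n) F) ∈ parabolicGL n F μ := by
  intro i j hij
  change σ⁻¹.permMatrix F i j = 0
  by_contra h0
  have e : σ⁻¹ i = j := by
    simpa [Equiv.Perm.permMatrix, PEquiv.toMatrix_apply, Equiv.toPEquiv_apply] using h0
  rw [← e] at hij
  have := (youngSubgroup μ).inv_mem h i
  omega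

theorem upper_le_parabolic (μ : Fin n → ℕ) : upperTriangularGL n F ≤ parabolicGL n F μ := by
  intro g hg i j hij
  apply hg
  by_contra h
  exact absurd hij (not_lt.mpr (compLabel_mono μ (not_lt.mp h)))

/-- Bruhat decomposition. -/
theorem bruhat (g : GL (Fin n) F) : ∃ (σ : Equiv.Perm (Fin n)) (b c : GL (Fin n) F),
    b ∈ upperTriangularGL n F ∧ c ∈ upperTriangularGL n F ∧ g = b * permGLn σ * c := by
  classical
  let S : Fin n → Set (Fin n → F) := fun j => {v | v j = 1 ∧ ∀ k, j < k → v k = 0}
  let supp : (Fin n → F) → Finset (Fin n) := fun v => univ.filter fun i => (g.val *ᵥ v) i ≠ 0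
  have hne : ∀ v, v ≠ 0 → (supp v).Nonempty := by
    intro v hv
    by_contra h
    apply hv
    have h1 : g.val *ᵥ v = 0 := by
      funext i
      by_contra h2
      exact h ⟨i, by simpa [supp] using h2⟩
    have := congrArg (fun w => g⁻¹.val *ᵥ w) h1
    simpa [mulVec_mulVec, ← Units.val_mul] using this
  have hS : ∀ j v, v ∈ S j → v ≠ 0 := fun j v hv h => by
    have := hv.1
    rw [h] at this
    exact zero_ne_one this
  have hpick : ∀ j, ∃ v ∈ S j, ∀ v' ∈ S j, ∀ i, (g.val *ᵥ v) i ≠ 0 →
      ∃ i', i ≤ i' ∧ (g.val *ᵥ v') i' ≠ 0 := by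
    intro j
    let T : Set (Fin n) := {m | ∃ v ∈ S j, ∀ i, (g.val *ᵥ v) i ≠ 0 → i ≤ m}
    have hbase : (Pi.single j 1 : Fin n → F) ∈ S j :=
      ⟨Pi.single_eq_same _ _, fun k hk => Pi.single_eq_of_ne hk.ne' _⟩
    have hT : T.Nonempty := ⟨⟨n - 1, by have := j.2; omega⟩, _, hbase,
      fun i _ => Fin.mk_le_mk.mpr (by have := i.2; omega)⟩
    obtain ⟨m, ⟨v, hv, hvm⟩, hmin⟩ := WellFounded.has_min wellFounded_lt T hT
    refine ⟨v, hv, fun v' hv' i hi => ?_⟩
    have hne' := hne v' (hS j v' hv')
    have hm' : (supp v').max' hne' ∈ T := ⟨v', hv', fun i hi =>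
      Finset.le_max' _ _ (by simpa [supp] using hi)⟩
    refine ⟨(supp v').max' hne', (hvm i hi).trans (not_lt.mp (hmin _ hm')), ?_⟩
    simpa [supp] using Finset.max'_mem _ hne'
  choose v hv hbest using hpick
  let piv : Fin n → Fin n := fun j => (supp (v j)).max' (hne _ (hS j _ (hv j)))
  have hpiv : ∀ j, (g.val *ᵥ v j) (piv j) ≠ 0 := fun j => by
    simpa [supp, piv] using Finset.max'_mem _ (hne _ (hS j _ (hv j)))
  have hpivle : ∀ j i, (g.val *ᵥ v j) i ≠ 0 → i ≤ piv j := fun j i hi =>
    Finset.le_max' _ _ (by simpa [supp] using hi)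
  have hinj : ∀ j k, j < k → piv j ≠ piv k := by
    intro j k hjk h
    set t := (g.val *ᵥ v k) (piv k) / (g.val *ᵥ v j) (piv j)
    have hmem : v k - t • v j ∈ S k := by
      refine ⟨?_, fun l hl => ?_⟩
      · simp [(hv k).1, (hv j).2 k hjk]
      · simp [(hv k).2 l hl, (hv j).2 l (hjk.trans hl)]
    obtain ⟨i, hi, hi0⟩ := hbest k _ hmem (piv k) (hpiv k)
    rw [mulVec_sub, mulVec_smul, Pi.sub_apply, Pi.smul_apply, smul_eq_mul] at hi0
    rcases hi.lt_or_eq with hlt | heq
    · have e1 : (g.val *ᵥ v k) i = 0 := by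
        by_contra hc
        exact absurd (hpivle k i hc) (not_le.mpr hlt)
      have e2 : (g.val *ᵥ v j) i = 0 := by
        by_contra hc
        exact absurd (hpivle j i hc) (not_le.mpr (h ▸ hlt))
      simp [e1, e2] at hi0
    · subst heq
      apply hi0
      simp only [t]
      rw [← h, div_mul_cancel₀ _ (hpiv j), sub_self]
  have hpinj : Function.Injective piv := by
    intro j k h
    rcases lt_trichotomy j k with hlt | heq | hgt
    · exact absurd h (hinj j k hlt)
    · exact heq
    · exact absurd h.symm (hinj k j hgt)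
  let σ : Equiv.Perm (Fin n) := Equiv.ofBijective piv (Finite.injective_iff_bijective.mp hpinj)
  let U : Matrix (Fin n) (Fin n) F := Matrix.of fun i j => v j i
  have hU : U.BlockTriangular id := fun i j hij => (hv j).2 i hij
  have hUdet : U.det = 1 := by
    rw [Matrix.det_of_upperTriangular hU]
    exact Finset.prod_eq_one fun i _ => (hv i).1
  let u : GL (Fin n) F := Matrix.GeneralLinearGroup.mkOfDetNeZero U (by rw [hUdet]; exact one_ne_zero)
  have hu : u ∈ upperTriangularGL n F := hU
  refine ⟨σ, g * u * (permGLn σ)⁻¹, u⁻¹, ?_, Subgroup.inv_mem _ hu, by group⟩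
  intro i j hij
  change (g.val * u.val * (permGLn σ : GL (Fin n) F)⁻¹.val) i j = 0
  rw [← map_inv]
  change (g.val * U * (σ⁻¹)⁻¹.permMatrix F) i j = 0
  rw [inv_inv, PEquiv.mul_toMatrix_toPEquiv]
  change (g.val *ᵥ v (σ.symm j)) i = 0
  by_contra h
  have h1 := hpivle _ i h
  have h2 : piv (σ.symm j) = j := σ.apply_symm_apply j
  rw [h2] at h1
  exact absurd hij (not_lt.mpr h1)

/-- The invariant of a double coset: counts of vectors in a coordinate subspace mapped into another. -/
noncomputable def rankCount (α μ : Fin n → ℕ) (g : GL (Fin n) F) (a b : ℕ) : ℕ :=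
  Nat.card {v : Fin n → F // (∀ i, b ≤ compLabel μ i → v i = 0) ∧
    ∀ i, a ≤ compLabel α i → (g.val *ᵥ v) i = 0}

theorem parabolic_mulVec {p : GL (Fin n) F} (hp : p ∈ parabolicGL n F μ) {a : ℕ} {v : Fin n → F}
    (hv : ∀ i, a ≤ compLabel μ i → v i = 0) : ∀ i, a ≤ compLabel μ i → (p.val *ᵥ v) i = 0 := by
  intro i hi
  change ∑ k, p.val i k * v k = 0
  refine Finset.sum_eq_zero fun k _ => ?_
  by_cases h : a ≤ compLabel μ k
  · simp [hv k h]
  · simp [hp (show compLabel μ k < compLabel μ i by omega)]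

theorem parabolic_mulVec_iff {p : GL (Fin n) F} (hp : p ∈ parabolicGL n F μ) {a : ℕ}
    {v : Fin n → F} : (∀ i, a ≤ compLabel μ i → (p.val *ᵥ v) i = 0) ↔
      ∀ i, a ≤ compLabel μ i → v i = 0 := by
  refine ⟨fun h => ?_, fun h => parabolic_mulVec hp h⟩
  have := parabolic_mulVec (Subgroup.inv_mem _ hp) h
  simpa [mulVec_mulVec, ← Units.val_mul] using this

theorem rankCount_mul {p p' : GL (Fin n) F} (hp : p ∈ parabolicGL n F α)
    (hp' : p' ∈ parabolicGL n F μ) (g : GL (Fin n) F) (a b : ℕ) :
    rankCount α μ (p * g * p') a b = rankCount α μ g a b := by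
  let e : (Fin n → F) ≃ (Fin n → F) :=
    ⟨fun v => p'.val *ᵥ v, fun v => p'⁻¹.val *ᵥ v,
      fun v => by simp [mulVec_mulVec, ← Units.val_mul],
      fun v => by simp [mulVec_mulVec, ← Units.val_mul]⟩
  refine Nat.card_congr (Equiv.subtypeEquiv e fun v => ?_)
  change _ ↔ (∀ i, b ≤ compLabel μ i → (p'.val *ᵥ v) i = 0) ∧
    ∀ i, a ≤ compLabel α i → (g.val *ᵥ (p'.val *ᵥ v)) i = 0
  rw [parabolic_mulVec_iff hp', Units.val_mul, Units.val_mul, ← mulVec_mulVec, ← mulVec_mulVec,
    parabolic_mulVec_iff hp]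

theorem rankCount_perm [Fintype F] (w : Equiv.Perm (Fin n)) (a b : ℕ) :
    rankCount α μ (permGLn w : GL (Fin n) F) a b = Fintype.card F ^
      (univ.filter fun j => compLabel α (w j) < a ∧ compLabel μ j < b).card := by
  classical
  set s := univ.filter fun j => compLabel α (w j) < a ∧ compLabel μ j < b with hs
  have hiff : ∀ v : Fin n → F, ((∀ i, b ≤ compLabel μ i → v i = 0) ∧
      ∀ i, a ≤ compLabel α i → ((permGLn w : GL (Fin n) F).val *ᵥ v) i = 0) ↔
      ∀ j, j ∉ s → v j = 0 := by
    intro v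
    simp only [permGLn_mulVec, hs, mem_filter, mem_univ, true_and, not_and, not_lt]
    constructor
    · rintro ⟨h1, h2⟩ j hj
      by_cases h : compLabel α (w j) < a
      · exact h1 j (hj h)
      · have := h2 (w j) (not_lt.mp h)
        simpa using this
    · intro h
      refine ⟨fun i hi => h i fun _ => hi, fun i hi => h (w⁻¹ i) fun hlt => ?_⟩
      simp at hlt
      omega
  rw [rankCount, ← Fintype.card_coe, ← Fintype.card_fun, ← Nat.card_eq_fintype_card]
  exact Nat.card_congr
    { toFun := fun v j => v.1 j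
      invFun := fun x => ⟨fun j => if h : j ∈ s then x ⟨j, h⟩ else 0,
        (hiff _).mpr fun j hj => dif_neg hj⟩
      left_inv := fun v => by
        apply Subtype.ext
        funext j
        by_cases h : j ∈ s
        · simp [h]
        · simp [h, (hiff _).mp v.2 j h]
      right_inv := fun x => by
        funext j
        simp [j.2] }

theorem cnt_eq_of_rankCount_eq [Fintype F] (hα : ∑ i, α i = n) (hμ : ∑ i, μ i = n)
    {w w' : Equiv.Perm (Fin n)}
    (h : ∀ a b, rankCount α μ (permGLn w : GL (Fin n) F) a b =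
      rankCount α μ (permGLn w' : GL (Fin n) F) a b) : cnt hα hμ w = cnt hα hμ w' := by
  let C : Equiv.Perm (Fin n) → ℕ → ℕ → ℕ := fun w a b =>
    (univ.filter fun j => compLabel α (w j) < a ∧ compLabel μ j < b).card
  have hC : ∀ a b, C w a b = C w' a b := fun a b => by
    have h1 := h a b
    rw [rankCount_perm, rankCount_perm] at h1
    exact Nat.pow_right_injective Fintype.one_lt_card h1
  have key : ∀ (w : Equiv.Perm (Fin n)) (a b : Fin n),
      (cnt hα hμ w).1 a b + C w (a + 1) b + C w a (b + 1) = C w (a + 1) (b + 1) + C w a b := by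
    intro w a b
    simp only [C, cnt, Finset.card_filter, ← Finset.sum_add_distrib, Fin.ext_iff, lab_val]
    refine Finset.sum_congr rfl fun j _ => ?_
    split_ifs <;> omega
  apply Subtype.ext
  funext a b
  have h1 := key w a b
  have h2 := key w' a b
  rw [hC, hC, hC, hC] at h1
  omega

theorem card_orbits_flags [Fintype F] (hα : ∑ i, α i = n) (hμ : ∑ i, μ i = n) :
    Nat.card (Quotient (MulAction.orbitRel (GL (Fin n) F)
      ((GL (Fin n) F ⧸ parabolicGL n F α) × (GL (Fin n) F ⧸ parabolicGL n F μ)))) =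
      Nat.card (Margins α μ) := by
  choose σ b c hb hc hg using bruhat (F := F) (n := n)
  have hrc : ∀ g a b, rankCount α μ (permGLn (σ g) : GL (Fin n) F) a b = rankCount α μ g a b := by
    intro g a b'
    conv_rhs => rw [hg g]
    rw [rankCount_mul (upper_le_parabolic α (hb g)) (upper_le_parabolic μ (hc g))]
  refine card_orbits_pairs _ _ (fun g => cnt hα hμ (σ g)) ?_ ?_
  · intro N
    obtain ⟨w, rfl⟩ := cnt_surjective hα hμ N
    refine ⟨permGLn w, cnt_eq_of_rankCount_eq (F := F) hα hμ fun a b => ?_⟩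
    rw [hrc]
  · intro x y
    constructor
    · intro h
      obtain ⟨u, hu, v, hv, e⟩ := exists_of_cnt_eq hα hμ h
      refine ⟨b y * permGLn u * (b x)⁻¹, ?_, (c x)⁻¹ * permGLn v * c y, ?_, ?_⟩
      · exact mul_mem (mul_mem (upper_le_parabolic α (hb y)) (permGLn_mem hu))
          (inv_mem (upper_le_parabolic α (hb x)))
      · exact mul_mem (mul_mem (inv_mem (upper_le_parabolic μ (hc x))) (permGLn_mem hv))
          (upper_le_parabolic μ (hc y))
      · calc y = b y * permGLn (σ y) * c y := hg y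
          _ = b y * permGLn u * (b x)⁻¹ * (b x * permGLn (σ x) * c x) *
              ((c x)⁻¹ * permGLn v * c y) := by rw [e, map_mul, map_mul]; group
          _ = _ := by rw [← hg x]
    · rintro ⟨p, hp, p', hp', rfl⟩
      refine cnt_eq_of_rankCount_eq (F := F) hα hμ fun a b => ?_
      rw [hrc, hrc, rankCount_mul hp hp']

end Cfsg.Agent.Small.Flags
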