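import Mathlib
import Cfsg.Agent.Lib.Small.Flags.Bruhat

/-!
The order of a standard parabolic subgroup of `GL_n(q)` and the number of flags of a given type.
-/

set_option autoImplicit false

namespace Cfsg.Agent.Small.Flags

open Finset Matrix

/-- The q-integer `1 + q + ⋯ + q^(r-1)`. -/
def qInt (q r : ℕ) : ℕ := ∑ l ∈ range r, q ^ l

/-- The q-factorial. -/
def qFact (q n : ℕ) : ℕ := ∏ j ∈ range n, qInt q (j + 1)

theorem qFact_pos (q n : ℕ) : 0 < qFact q n := by
  refine Finset.prod_pos fun j _ => ?_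
  unfold qInt
  refine lt_of_lt_of_le (show 0 < q ^ 0 by simp) ?_
  exact Finset.single_le_sum (f := fun l => q ^ l) (fun _ _ => Nat.zero_le _)
    (Finset.mem_range.mpr (Nat.succ_pos _))

theorem prod_pow_sub (q : ℕ) : ∀ m : ℕ,
    ∏ i ∈ range m, (q ^ m - q ^ i) = q ^ m.choose 2 * (q - 1) ^ m * qFact q m
  | 0 => by simp [qFact]
  | m + 1 => by
    have h1 : ∀ i, q ^ (m + 1) - q ^ (i + 1) = q * (q ^ m - q ^ i) := fun i => by
      rw [pow_succ', pow_succ', Nat.mul_sub]
    have h2 : q ^ (m + 1) - 1 = (q - 1) * qInt q (m + 1) := by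
      rcases Nat.eq_zero_or_pos q with rfl | hq
      · simp
      · have h := geom_sum_mul_add (q - 1) (m + 1)
        rw [Nat.sub_add_cancel (show 1 ≤ q from hq)] at h
        rw [qInt]
        rw [mul_comm]
        omega
    rw [Finset.prod_range_succ', Finset.prod_congr rfl fun i _ => h1 i, Finset.prod_mul_distrib,
      prod_pow_sub q m, Finset.prod_const, Finset.card_range, pow_zero, h2]
    rw [qFact, qFact, Finset.prod_range_succ, Nat.choose_succ_succ', Nat.choose_one_right,
      pow_add, pow_succ]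
    ring

variable {F : Type*} [Field F] [Fintype F]

theorem card_GL_type (ι : Type*) [Fintype ι] [DecidableEq ι] :
    Nat.card (GL ι F) = Fintype.card F ^ (Fintype.card ι).choose 2 *
      (Fintype.card F - 1) ^ Fintype.card ι * qFact (Fintype.card F) (Fintype.card ι) := by
  classical
  rw [← prod_pow_sub, ← Fin.prod_univ_eq_prod_range
    (fun i => Fintype.card F ^ Fintype.card ι - Fintype.card F ^ i),
    ← Matrix.card_GL_field (𝔽 := F) (Fintype.card ι)]
  exact Nat.card_congr (Units.mapEquiv
    (Matrix.reindexAlgEquiv F F (Fintype.equivFin ι)).toMulEquiv).toEquiv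

variable {n : ℕ}

theorem card_parabolic {μ : Fin n → ℕ} (hμ : ∑ i, μ i = n) :
    Nat.card (parabolicGL n F μ) =
      (∏ k : Fin n, (Fintype.card F ^ (μ k).choose 2 * (Fintype.card F - 1) ^ μ k *
        qFact (Fintype.card F) (μ k))) *
      Fintype.card F ^ (univ.filter fun p : Fin n × Fin n => lab hμ p.1 < lab hμ p.2).card := by
  classical
  set ℓ := lab hμ with hℓ
  have hbt : ∀ M : Matrix (Fin n) (Fin n) F,
      M.BlockTriangular (compLabel μ) ↔ M.BlockTriangular ℓ := fun M => Iff.rfl
  have hdet : ∀ M : Matrix (Fin n) (Fin n) F, M.BlockTriangular ℓ →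
      (M.det ≠ 0 ↔ ∀ k, (M.toSquareBlock ℓ k).det ≠ 0) := by
    intro M hM
    rw [hM.det, Finset.prod_ne_zero_iff]
    refine ⟨fun h k => ?_, fun h k _ => h k⟩
    by_cases hk : k ∈ univ.image ℓ
    · exact h k hk
    · have : IsEmpty {a // ℓ a = k} := ⟨fun a => hk (by
        rw [← a.2]; exact Finset.mem_image_of_mem _ (mem_univ _))⟩
      rw [Matrix.det_isEmpty]
      exact one_ne_zero
  let mk : (∀ k, GL {a // ℓ a = k} F) × ({p : Fin n × Fin n // ℓ p.1 < ℓ p.2} → F) →
      Matrix (Fin n) (Fin n) F := fun x => Matrix.of fun i j =>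
    if h : ℓ j = ℓ i then (x.1 (ℓ i)).val ⟨i, rfl⟩ ⟨j, h⟩
    else if h' : ℓ i < ℓ j then x.2 ⟨(i, j), h'⟩ else 0
  have hmk : ∀ x, (mk x).BlockTriangular ℓ := by
    intro x i j hij
    simp [mk, hij.ne, not_lt.mpr hij.le]
  have hblock : ∀ x k, (mk x).toSquareBlock ℓ k = (x.1 k).val := by
    intro x k
    ext a b
    obtain ⟨a, rfl⟩ := a
    simp [mk, Matrix.toSquareBlock_def, b.2]
  let e : parabolicGL n F μ ≃
      (∀ k, GL {a // ℓ a = k} F) × ({p : Fin n × Fin n // ℓ p.1 < ℓ p.2} → F) :=
    { toFun := fun g => (fun k => Matrix.GeneralLinearGroup.mkOfDetNeZero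
          (g.1.val.toSquareBlock ℓ k)
          ((hdet _ ((hbt _).mp g.2)).mp (Matrix.GeneralLinearGroup.det_ne_zero g.1) k),
        fun p => g.1.val p.1.1 p.1.2)
      invFun := fun x => ⟨Matrix.GeneralLinearGroup.mkOfDetNeZero (mk x)
          ((hdet _ (hmk x)).mpr fun k => by
            rw [hblock]; exact Matrix.GeneralLinearGroup.det_ne_zero _),
        (hbt _).mpr (hmk x)⟩
      left_inv := fun g => by
        apply Subtype.ext
        apply Units.ext
        ext i j
        change mk _ i j = _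
        simp only [mk, Matrix.of_apply]
        split_ifs with h h'
        · rfl
        · rfl
        · exact ((hbt _).mp g.2 (lt_of_le_of_ne (not_lt.mp h') h)).symm
      right_inv := fun x => by
        refine Prod.ext (funext fun k => Units.ext (hblock x k)) (funext fun p => ?_)
        change mk x p.1.1 p.1.2 = _
        simp [mk, p.2.ne', p.2] }
  rw [Nat.card_congr e, Nat.card_prod, Nat.card_pi, Nat.card_fun]
  congr 1
  · refine Finset.prod_congr rfl fun k _ => ?_
    rw [card_GL_type, Fintype.card_subtype, card_fiber]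
  · rw [Nat.card_eq_fintype_card, Nat.card_eq_fintype_card, Fintype.card_subtype]

theorem choose_two_exp {μ : Fin n → ℕ} (hμ : ∑ i, μ i = n) :
    (univ.filter fun p : Fin n × Fin n => lab hμ p.1 < lab hμ p.2).card + ∑ k, (μ k).choose 2 =
      n.choose 2 := by
  classical
  set ℓ := lab hμ
  have hc : ∀ m : ℕ, m.choose 2 * 2 + m = m * m := by
    intro m
    induction m with
    | zero => simp
    | succ m ih => rw [Nat.choose_succ_succ', Nat.choose_one_right]; linarith
  have hsym : (univ.filter fun p : Fin n × Fin n => ℓ p.2 < ℓ p.1).card =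
      (univ.filter fun p : Fin n × Fin n => ℓ p.1 < ℓ p.2).card := by
    rw [← Finset.card_map (Equiv.prodComm (Fin n) (Fin n)).toEmbedding]
    congr 1
    ext p
    simp [Finset.mem_map_equiv]
  have hdiag : (univ.filter fun p : Fin n × Fin n => ℓ p.1 = ℓ p.2).card = ∑ k, μ k * μ k := by
    rw [Finset.card_eq_sum_card_fiberwise (f := fun p => ℓ p.1) (t := univ) (fun _ _ => by simp)]
    refine Finset.sum_congr rfl fun k _ => ?_
    rw [← card_fiber hμ k, ← Finset.card_product]
    congr 1
    ext p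
    simp only [mem_filter, mem_univ, true_and, Finset.mem_product]
    exact ⟨fun ⟨h1, h2⟩ => ⟨h2, h1.symm.trans h2⟩, fun ⟨h1, h2⟩ => ⟨h1.trans h2.symm, h1⟩⟩
  have htot : (univ.filter fun p : Fin n × Fin n => ℓ p.1 < ℓ p.2).card +
      ((univ.filter fun p : Fin n × Fin n => ℓ p.2 < ℓ p.1).card +
        (univ.filter fun p : Fin n × Fin n => ℓ p.1 = ℓ p.2).card) = n * n := by
    simp only [Finset.card_filter, ← Finset.sum_add_distrib]
    rw [Finset.sum_congr rfl (g := fun _ => 1) fun p _ => ?_]
    · simp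
    · rcases lt_trichotomy (ℓ p.1) (ℓ p.2) with h | h | h
      · simp [h, h.ne, not_lt.mpr h.le]
      · simp [h]
      · simp [h, h.ne', not_lt.mpr h.le]
  have h2 : (∑ k, (μ k).choose 2) * 2 + n = ∑ k, μ k * μ k := by
    rw [Finset.sum_mul]
    conv_lhs => arg 2; rw [← hμ]
    rw [← Finset.sum_add_distrib]
    exact Finset.sum_congr rfl fun k _ => hc _
  have h3 := hc n
  omega

/-- The number of flags of type `μ`. -/
theorem flag_count {μ : Fin n → ℕ} (hμ : ∑ i, μ i = n) :
    Nat.card (GL (Fin n) F ⧸ parabolicGL n F μ) * ∏ i, qFact (Fintype.card F) (μ i) =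
      qFact (Fintype.card F) n := by
  classical
  have h := (parabolicGL n F μ).card_eq_card_quotient_mul_card_subgroup
  rw [card_GL_type, Fintype.card_fin, card_parabolic hμ, Finset.prod_mul_distrib,
    Finset.prod_mul_distrib, Finset.prod_pow_eq_pow_sum, Finset.prod_pow_eq_pow_sum, hμ,
    ← choose_two_exp hμ, pow_add] at h
  have hq : 2 ≤ Fintype.card F := Fintype.one_lt_card
  have hne : Fintype.card F ^ (univ.filter fun p : Fin n × Fin n => lab hμ p.1 < lab hμ p.2).card *
      Fintype.card F ^ (∑ k, (μ k).choose 2) * (Fintype.card F - 1) ^ n ≠ 0 := by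
    have : Fintype.card F - 1 ≠ 0 := by omega
    have : Fintype.card F ≠ 0 := by omega
    positivity
  apply mul_left_cancel₀ hne
  rw [h]
  ring

end Cfsg.Agent.Small.Flags
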