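import Mathlib
import Cfsg.Agent.Lib.Small.Flags.Bruhat

/-!
The bialternant form of the Jacobi–Trudi determinant, read coefficientwise: alternating sums of
numbers of margin matrices are orthonormal.
-/

set_option autoImplicit false

namespace Cfsg.Agent.Small.Flags

open Finset MvPolynomial Matrix

variable {n : ℕ}

/-- The polynomial ring in `n` variables over the integers. -/
local notation "R" => MvPolynomial (Fin n) ℤ

/-- The geometric series `∑ x^m t^m`. -/
noncomputable def geo (x : R) : PowerSeries R := PowerSeries.mk fun m => x ^ m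

theorem geo_mul (x : R) : (1 - PowerSeries.C x * PowerSeries.X) * geo x = 1 := by
  ext m : 1
  rcases m with _ | m
  · simp [sub_mul, mul_assoc, geo]
  · rw [sub_mul, one_mul, map_sub, mul_assoc, PowerSeries.coeff_C_mul, PowerSeries.coeff_succ_X_mul]
    simp [geo, pow_succ']

/-- The generating series of the complete symmetric functions. -/
noncomputable def hSeries (n : ℕ) : PowerSeries (MvPolynomial (Fin n) ℤ) :=
  ∏ l : Fin n, geo (X l)

/-- Complete symmetric functions, with zero in negative degree (`h (a - j)`). -/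
noncomputable def hh (a j : ℕ) : R := if j ≤ a then PowerSeries.coeff (a - j) (hSeries n) else 0

/-- `∏_{l ≠ k} (1 - x_l t)`. -/
noncomputable def ePoly (k : Fin n) : Polynomial R :=
  ∏ l ∈ univ.erase k, (1 - Polynomial.C (X l) * Polynomial.X)

theorem ePoly_natDegree (k : Fin n) : (ePoly k).natDegree < n := by
  refine lt_of_le_of_lt (Polynomial.natDegree_prod_le _ _) ?_
  refine lt_of_le_of_lt (Finset.sum_le_sum (g := fun _ => 1) fun l _ => ?_) ?_
  · refine (Polynomial.natDegree_sub_le _ _).trans (max_le (by simp) ?_)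
    exact (Polynomial.natDegree_C_mul_le _ _).trans Polynomial.natDegree_X_le
  · simp only [Finset.sum_const, smul_eq_mul, mul_one, Finset.card_erase_of_mem (mem_univ k),
      Finset.card_univ, Fintype.card_fin]
    have := k.2
    omega

theorem ePoly_mul_hSeries (k : Fin n) :
    (ePoly k : PowerSeries R) * hSeries n = geo (X k) := by
  have h1 : (ePoly k : PowerSeries R) =
      ∏ l ∈ univ.erase k, (1 - PowerSeries.C (X l : R) * PowerSeries.X) := by
    rw [ePoly]
    change Polynomial.coeToPowerSeries.ringHom (∏ l ∈ univ.erase k, _) = _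
    rw [map_prod]
    simp
  rw [h1, hSeries, ← Finset.mul_prod_erase univ (fun l => geo (X l : R)) (mem_univ k),
    mul_left_comm, ← Finset.prod_mul_distrib]
  simp [geo_mul]

theorem pow_eq_sum (k : Fin n) (m : ℕ) :
    (X k : R) ^ m = ∑ j : Fin n, hh m j * (ePoly k).coeff j := by
  have h1 : PowerSeries.coeff m ((ePoly k : PowerSeries R) * hSeries n) = (X k : R) ^ m := by
    rw [ePoly_mul_hSeries]; simp [geo]
  rw [← h1, PowerSeries.coeff_mul, Finset.Nat.sum_antidiagonal_eq_sum_range_succ
    (f := fun a b => PowerSeries.coeff a (ePoly k : PowerSeries R) * PowerSeries.coeff b (hSeries n)),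
    Fin.sum_univ_eq_sum_range (fun j => hh m j * (ePoly k).coeff j) n]
  simp only [Polynomial.coeff_coe]
  rw [← Finset.sum_subset (s₁ := range n ∩ range (m + 1)) (s₂ := range (m + 1))
    Finset.inter_subset_right, ← Finset.sum_subset (s₁ := range n ∩ range (m + 1)) (s₂ := range n)
    Finset.inter_subset_left]
  · refine Finset.sum_congr rfl fun j hj => ?_
    simp only [mem_inter, mem_range] at hj
    rw [hh, if_pos (by omega), mul_comm]
  · intro j hj hj'
    simp only [mem_inter, mem_range] at hj hj'
    rw [hh, if_neg (by omega), zero_mul]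
  · intro j hj hj'
    simp only [mem_inter, mem_range] at hj hj'
    rw [Polynomial.coeff_eq_zero_of_natDegree_lt
      (lt_of_lt_of_le (ePoly_natDegree k) (by omega)), zero_mul]

/-- `det (x_k ^ η_i)`. -/
noncomputable def altDet (η : Fin n → ℕ) : R :=
  (Matrix.of fun i k : Fin n => (X k : R) ^ η i).det

/-- `det (h (η_i - j))`. -/
noncomputable def hDet (η : Fin n → ℕ) : R :=
  (Matrix.of fun i j : Fin n => hh (η i) j).det

theorem altDet_eq (η : Fin n → ℕ) :
    altDet η = hDet η * altDet (fun i : Fin n => i.val) := by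
  let E : Matrix (Fin n) (Fin n) R := Matrix.of fun j k => (ePoly k).coeff j
  have hfac : ∀ η : Fin n → ℕ, altDet η = hDet η * E.det := by
    intro η
    rw [hDet, ← Matrix.det_mul, altDet]
    congr 1
    ext i k : 1
    rw [Matrix.mul_apply]
    exact pow_eq_sum k (η i)
  have hδ : hDet (fun i : Fin n => i.val) = 1 := by
    rw [hDet, Matrix.det_of_lowerTriangular]
    · refine Finset.prod_eq_one fun i _ => ?_
      simp [hh, hSeries, PowerSeries.coeff_zero_eq_constantCoeff, map_prod, geo]
    · intro i j hij
      simp only [OrderDual.toDual_lt_toDual] at hij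
      change hh i.val j.val = 0
      rw [hh, if_neg (by omega)]
  rw [hfac η, hfac fun i : Fin n => i.val, hδ, one_mul]

theorem prod_X_pow_eq (d : Fin n → ℕ) :
    ∏ i, (X i : R) ^ d i = monomial (Finsupp.equivFunOnFinite.symm d) 1 := by
  rw [MvPolynomial.monomial_eq, map_one, one_mul, Finsupp.prod_fintype _ _ (fun i => pow_zero _)]
  simp

theorem hSeries_coeff (m : ℕ) :
    PowerSeries.coeff m (hSeries n) =
      ∑ d ∈ finsuppAntidiag (univ : Finset (Fin n)) m, monomial d (1 : ℤ) := by
  rw [hSeries, PowerSeries.coeff_prod]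
  refine Finset.sum_congr rfl fun d _ => ?_
  simp only [geo, PowerSeries.coeff_mk, prod_X_pow_eq]
  congr 1
  ext i
  simp

theorem coeff_prod_h (α μ : Fin n → ℕ) :
    MvPolynomial.coeff (Finsupp.equivFunOnFinite.symm α)
      (∏ j : Fin n, PowerSeries.coeff (μ j) (hSeries n)) = (Nat.card (Margins α μ) : ℤ) := by
  classical
  simp only [hSeries_coeff]
  rw [Finset.prod_univ_sum, MvPolynomial.coeff_sum]
  simp only [← MvPolynomial.monomial_sum_one, MvPolynomial.coeff_monomial]
  rw [Finset.sum_boole]
  norm_cast
  rw [← Nat.card_eq_finsetCard]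
  apply Nat.card_congr
  refine
    { toFun := fun D => ⟨fun a b => D.1 b a, ?_⟩
      invFun := fun N => ⟨fun b => Finsupp.equivFunOnFinite.symm fun a => N.1 a b, ?_⟩
      left_inv := fun D => by
        apply Subtype.ext
        funext b
        ext a
        rfl
      right_inv := fun N => rfl }
  · have hD := Finset.mem_filter.mp D.2
    refine ⟨fun a => ?_, fun b => ?_⟩
    · have := congrArg (fun d : Fin n →₀ ℕ => d a) hD.2
      simpa using this
    · have h1 := Fintype.mem_piFinset.mp hD.1 b
      exact (Finset.mem_finsuppAntidiag.mp h1).1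
  · rw [Finset.mem_filter, Fintype.mem_piFinset]
    refine ⟨fun b => Finset.mem_finsuppAntidiag.mpr ⟨?_, Finset.subset_univ _⟩, ?_⟩
    · simpa using N.2.2 b
    · ext a
      simpa using N.2.1 a

theorem altDet_coeff (η lam : Fin n → ℕ) (hη : StrictMono η) (hlam : StrictMono lam) :
    MvPolynomial.coeff (Finsupp.equivFunOnFinite.symm lam) (altDet η : R) =
      if η = lam then 1 else 0 := by
  classical
  rw [altDet, Matrix.det_apply', MvPolynomial.coeff_sum]
  have key : ∀ σ : Equiv.Perm (Fin n),
      MvPolynomial.coeff (Finsupp.equivFunOnFinite.symm lam)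
        ((((Equiv.Perm.sign σ : ℤ) : R)) * ∏ i, (Matrix.of fun i k : Fin n => (X k : R) ^ η i) (σ i) i) =
      if σ = 1 then (if η = lam then 1 else 0) else 0 := by
    intro σ
    simp only [Matrix.of_apply]
    rw [prod_X_pow_eq, show ((Equiv.Perm.sign σ : ℤ) : R) = C (Equiv.Perm.sign σ : ℤ) from
      (eq_intCast C _).symm, MvPolynomial.coeff_C_mul, MvPolynomial.coeff_monomial]
    by_cases h : (fun i => η (σ i)) = lam
    · have e : η = lam := (StrictMono.range_inj hη hlam).mp (by
        rw [← h]; exact (σ.surjective.range_comp η).symm)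
      have hσ : σ = 1 := Equiv.ext fun i => hη.injective (by
        have := congrFun h i
        rw [← e] at this
        exact this)
      rw [h, if_pos rfl, if_pos hσ, if_pos e, hσ]
      simp
    · rw [if_neg (fun e => h (Finsupp.equivFunOnFinite.symm.injective e))]
      split_ifs with h1 h2
      · subst h1; subst h2; exact absurd rfl h
      · simp
      · simp
  rw [Finset.sum_congr rfl fun σ _ => key σ]
  simp

theorem hDet_eq (η : Fin n → ℕ) :
    hDet η = ∑ κ : Equiv.Perm (Fin n), if ∀ i : Fin n, (κ i).val ≤ η i then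
      ((Equiv.Perm.sign κ : ℤ) : R) * ∏ i, PowerSeries.coeff (η i - (κ i).val) (hSeries n)
    else 0 := by
  rw [hDet, ← Matrix.det_transpose, Matrix.det_apply']
  refine Finset.sum_congr rfl fun κ _ => ?_
  simp only [Matrix.transpose_apply, Matrix.of_apply]
  split_ifs with h
  · congr 1
    exact Finset.prod_congr rfl fun i _ => if_pos (h i)
  · push Not at h
    obtain ⟨i, hi⟩ := h
    rw [Finset.prod_eq_zero (mem_univ i) (if_neg (not_le.mpr hi)), mul_zero]

/-- Orthonormality of the alternating sums of margin counts. -/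
theorem alternating_margins (η lam : Fin n → ℕ) (hη : StrictMono η) (hlam : StrictMono lam) :
    (∑ κ : Equiv.Perm (Fin n), ∑ π : Equiv.Perm (Fin n),
      if (∀ i : Fin n, (κ i).val ≤ lam i) ∧ (∀ i : Fin n, (π i).val ≤ η i) then
        (Equiv.Perm.sign κ : ℤ) * (Equiv.Perm.sign π : ℤ) *
          (Nat.card (Margins (fun i => lam i - (κ i).val) (fun i => η i - (π i).val)) : ℤ)
      else 0) = if η = lam then 1 else 0 := by
  classical
  rw [← altDet_coeff η lam hη hlam, altDet_eq η]
  conv_rhs => rw [altDet, Matrix.det_apply']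
  rw [Finset.mul_sum, MvPolynomial.coeff_sum]
  refine Finset.sum_congr rfl fun κ _ => ?_
  simp only [Matrix.of_apply]
  rw [prod_X_pow_eq, show ((Equiv.Perm.sign κ : ℤ) : R) = C (Equiv.Perm.sign κ : ℤ) from
      (eq_intCast C _).symm, mul_left_comm, MvPolynomial.coeff_C_mul,
      MvPolynomial.coeff_mul_monomial']
  have hle : (Finsupp.equivFunOnFinite.symm (fun i => (κ i).val) ≤
      Finsupp.equivFunOnFinite.symm lam) ↔ ∀ i, (κ i).val ≤ lam i := by
    simp [Finsupp.le_def]
  simp only [hle, mul_one]
  by_cases hκ : ∀ i, (κ i).val ≤ lam i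
  · simp only [hκ, true_and, if_true, implies_true]
    rw [show Finsupp.equivFunOnFinite.symm lam - Finsupp.equivFunOnFinite.symm (fun i => (κ i).val)
        = Finsupp.equivFunOnFinite.symm (fun i => lam i - (κ i).val) from by ext i; simp,
      hDet_eq, MvPolynomial.coeff_sum, Finset.mul_sum]
    refine Finset.sum_congr rfl fun π _ => ?_
    split_ifs
    · rw [show ((Equiv.Perm.sign π : ℤ) : R) = C (Equiv.Perm.sign π : ℤ) from
        (eq_intCast C _).symm, MvPolynomial.coeff_C_mul, coeff_prod_h, mul_assoc]
    · simp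
  · simp [hκ]

end Cfsg.Agent.Small.Flags
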