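import Mathlib
import Cfsg.Prelude.Def_Characters
import Cfsg.Agent.Lib.Char.Ortho
import Cfsg.Agent.Lib.Char.IndValue
import Cfsg.Agent.Lib.Char.Induction
import Cfsg.Agent.Lib.Small.Flags.JacobiTrudi
import Cfsg.Agent.Lib.Small.Flags.Count

/-!
Inner products of the flag characters of `GL_n(q)` and of their alternating sums.
-/

set_option autoImplicit false

namespace Cfsg.Agent.Small.Flags

open Finset Cfsg Cfsg.Agent.Char
open scoped ComplexConjugate

theorem sum_fixedPointCharacter_mul {G : Type*} [Group G] [Fintype G] (H K : Subgroup G) :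
    (Nat.card G : ℂ)⁻¹ * ∑ g : G, fixedPointCharacter H g * fixedPointCharacter K g =
      (Nat.card (Quotient (MulAction.orbitRel G ((G ⧸ H) × (G ⧸ K)))) : ℂ) := by
  classical
  have := Fintype.ofFinite (G ⧸ H)
  have := Fintype.ofFinite (G ⧸ K)
  have := Fintype.ofFinite (Quotient (MulAction.orbitRel G ((G ⧸ H) × (G ⧸ K))))
  have h := MulAction.sum_card_fixedBy_eq_card_orbits_mul_card_group G ((G ⧸ H) × (G ⧸ K))
  have h1 : ∀ g : G, fixedPointCharacter H g * fixedPointCharacter K g =
      (Fintype.card (MulAction.fixedBy ((G ⧸ H) × (G ⧸ K)) g) : ℂ) := by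
    intro g
    rw [fixedPointCharacter, fixedPointCharacter, ← Nat.cast_mul, ← Nat.card_prod,
      ← Nat.card_eq_fintype_card]
    congr 1
    exact Nat.card_congr
      { toFun := fun p => ⟨(p.1.1, p.2.1), Prod.ext p.1.2 p.2.2⟩
        invFun := fun p => (⟨p.1.1, congrArg Prod.fst p.2⟩, ⟨p.1.2, congrArg Prod.snd p.2⟩)
        left_inv := fun p => rfl
        right_inv := fun p => rfl }
  rw [Finset.sum_congr rfl fun g _ => h1 g, ← Nat.cast_sum, h, Nat.cast_mul,
    ← Nat.card_eq_fintype_card, ← Nat.card_eq_fintype_card (α := G)]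
  have : (Nat.card G : ℂ) ≠ 0 := by simp
  field_simp

theorem conj_fixedPointCharacter {G : Type*} [Group G] (H : Subgroup G) (g : G) :
    conj (fixedPointCharacter H g) = fixedPointCharacter H g := by
  simp [fixedPointCharacter]

theorem isCharacter_fixedPointCharacter {G : Type*} [Group G] [Fintype G] (H : Subgroup G) :
    IsCharacter G (fixedPointCharacter H) := by
  classical
  have e : fixedPointCharacter H =
      indFun (MulAction.stabilizer G ((1 : G) : G ⧸ H)) (fun _ => 1) :=
    funext fun g => card_fixedBy_eq_indFun ((1 : G) : G ⧸ H) g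
  rw [e]
  exact isCharacter_indFun _ isCharacter_one

variable {F : Type*} [Field F] [Fintype F] {n : ℕ}

theorem classInner_flag [DecidableEq F] {α μ : Fin n → ℕ} (hα : ∑ i, α i = n)
    (hμ : ∑ i, μ i = n) :
    classInner (fixedPointCharacter (parabolicGL n F α)) (fixedPointCharacter (parabolicGL n F μ)) =
      (Nat.card (Margins α μ) : ℂ) := by
  rw [classInner]
  simp only [conj_fixedPointCharacter]
  rw [sum_fixedPointCharacter_mul, card_orbits_flags hα hμ]

theorem sum_shift {ν : Fin n → ℕ} (hsum : ∑ i, ν i = n) {κ : Equiv.Perm (Fin n)}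
    (h : ∀ i : Fin n, (κ i).val ≤ ν i + i.val) : ∑ i : Fin n, (ν i + i.val - (κ i).val) = n := by
  have h1 := Equiv.sum_comp κ (fun i : Fin n => i.val)
  have h2 : ∑ i : Fin n, (ν i + i.val - (κ i).val) + ∑ i : Fin n, (κ i).val =
      ∑ i : Fin n, (ν i + i.val) := by
    rw [← Finset.sum_add_distrib]
    exact Finset.sum_congr rfl fun i _ => Nat.sub_add_cancel (h i)
  rw [Finset.sum_add_distrib, h1, hsum] at h2
  omega

theorem strictMono_shift {ν : Fin n → ℕ} (hmono : Monotone ν) :
    StrictMono fun i : Fin n => ν i + i.val := by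
  intro i j hij
  have h1 := hmono hij.le
  have h2 : i.val < j.val := hij
  simp only
  omega

theorem classInner_unipotent [DecidableEq F] {ν ν' : Fin n → ℕ} (hmono : Monotone ν)
    (hsum : ∑ i, ν i = n) (hmono' : Monotone ν') (hsum' : ∑ i, ν' i = n) :
    classInner (unipotentCharacterGL n F ν) (unipotentCharacterGL n F ν') =
      if ν = ν' then 1 else 0 := by
  classical
  have hdef : ∀ ρ : Fin n → ℕ, unipotentCharacterGL n F ρ =
      ∑ κ : Equiv.Perm (Fin n), (if ∀ i : Fin n, (κ i).val ≤ ρ i + i.val then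
        ((Equiv.Perm.sign κ : ℤ) : ℂ) else 0) •
          fixedPointCharacter (parabolicGL n F fun i => ρ i + i.val - (κ i).val) := by
    intro ρ
    funext g
    rw [Finset.sum_apply]
    refine Finset.sum_congr rfl fun κ _ => ?_
    rw [Pi.smul_apply, smul_eq_mul]
    split_ifs <;> simp
  have halt := congrArg (Int.cast : ℤ → ℂ) (alternating_margins
    (fun i => ν' i + i.val) (fun i => ν i + i.val) (strictMono_shift hmono') (strictMono_shift hmono))
  have hiff : ((fun i => ν' i + i.val) = fun i => ν i + i.val) ↔ ν = ν' :=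
    ⟨fun h => funext fun i => by have := congrFun h i; omega, fun h => by rw [h]⟩
  simp only [hiff] at halt
  rw [show (if ν = ν' then (1 : ℂ) else 0) = ((if ν = ν' then (1 : ℤ) else 0 : ℤ) : ℂ) by
    split_ifs <;> simp, ← halt, hdef, hdef, classInner_sum_left, Int.cast_sum]
  refine Finset.sum_congr rfl fun κ _ => ?_
  rw [classInner_sum_right, Int.cast_sum]
  refine Finset.sum_congr rfl fun π _ => ?_
  rw [classInner_smul_left, classInner_smul_right]
  by_cases h : (∀ i : Fin n, (κ i).val ≤ ν i + i.val) ∧ ∀ i : Fin n, (π i).val ≤ ν' i + i.val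
  · rw [if_pos h, if_pos h.1, if_pos h.2,
      classInner_flag (sum_shift hsum h.1) (sum_shift hsum' h.2)]
    simp [mul_assoc]
  · rw [if_neg h]
    rcases not_and_or.mp h with h1 | h1
    · simp [if_neg h1]
    · simp [if_neg h1]

theorem unipotent_one {ν : Fin n → ℕ} (hsum : ∑ i, ν i = n) :
    unipotentCharacterGL n F ν 1 * (Fintype.card F : ℂ) ^ (n * (n - 1) * (n - 2) / 6) *
        ∏ i : Fin n, (qFact (Fintype.card F) (ν i + i.val) : ℂ) =
      (qFact (Fintype.card F) n : ℂ) * ∏ i : Fin n, ∏ j ∈ univ.filter (fun j : Fin n => i < j),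
          ((qInt (Fintype.card F) (ν j + j.val) : ℂ) - (qInt (Fintype.card F) (ν i + i.val) : ℂ)) := by
  classical
  set q := Fintype.card F
  let ff : ℕ → ℕ → ℂ := fun m j => ∏ l ∈ range j, (qInt q (m - l) : ℂ)
  have hff : ∀ m j, j ≤ m → (qFact q m : ℂ) = ff m j * qFact q (m - j) := by
    intro m j
    induction j with
    | zero => simp [ff]
    | succ j ih =>
      intro hj
      rw [ih (by omega)]
      simp only [ff, Finset.prod_range_succ]
      rw [mul_assoc]
      congr 1
      have : m - j = m - (j + 1) + 1 := by omega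
      conv_lhs => rw [qFact, this, Finset.prod_range_succ, Nat.cast_mul]
      rw [this, mul_comm]
      rfl
  have hff0 : ∀ m j, m < j → ff m j = 0 := fun m j h =>
    Finset.prod_eq_zero (Finset.mem_range.mpr h) (by simp [qInt])
  let P : Fin n → Polynomial ℂ := fun j =>
    ∏ l ∈ range j.val, (Polynomial.X - Polynomial.C (qInt q l : ℂ))
  have heval : ∀ (m : ℕ) (j : Fin n),
      (P j).eval (qInt q m : ℂ) = (q : ℂ) ^ (∑ l ∈ range j.val, l) * ff m j := by
    intro m j
    rw [Polynomial.eval_prod, ← Finset.prod_pow_eq_pow_sum]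
    simp only [ff, ← Finset.prod_mul_distrib, Polynomial.eval_sub, Polynomial.eval_X,
      Polynomial.eval_C]
    by_cases hjm : j.val ≤ m + 1
    · refine Finset.prod_congr rfl fun l hl => ?_
      have hl' : l ≤ m := by rw [Finset.mem_range] at hl; omega
      rw [qInt, qInt, qInt]
      push_cast
      rw [Finset.mul_sum, sub_eq_iff_eq_add', ← Nat.add_sub_cancel' hl', Finset.sum_range_add,
        Nat.add_sub_cancel_left]
      simp only [pow_add]
    · have hm : m ∈ range j.val := Finset.mem_range.mpr (by omega)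
      rw [Finset.prod_eq_zero hm (sub_self _), Finset.prod_eq_zero hm (by simp [qInt])]
  have hexp : ∑ j : Fin n, ∑ l ∈ range j.val, l = n * (n - 1) * (n - 2) / 6 := by
    rw [Fin.sum_univ_eq_sum_range (fun j => ∑ l ∈ range j, l) n]
    have key : ∀ k : ℕ, 6 * (∑ j ∈ range k, ∑ l ∈ range j, l) = k * (k - 1) * (k - 2) := by
      intro k
      induction k with
      | zero => simp
      | succ k ih =>
        rw [Finset.sum_range_succ, mul_add, ih, show 6 * ∑ l ∈ range k, l = 3 * (k * (k - 1)) by
          rw [← Finset.sum_range_id_mul_two]; ring]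
        rcases k with _ | _ | k
        · rfl
        · rfl
        · simp only [Nat.add_sub_cancel, show k + 2 - 2 = k by omega,
            show k + 2 + 1 - 2 = k + 1 by omega]
          ring
    rw [← key, Nat.mul_div_cancel_left _ (by norm_num : 0 < 6)]
  -- each term
  have hterm : unipotentCharacterGL n F ν 1 * ∏ i : Fin n, (qFact q (ν i + i.val) : ℂ) =
      (qFact q n : ℂ) * (Matrix.of fun i j : Fin n => ff (ν i + i.val) j).det := by
    rw [← Matrix.det_transpose, Matrix.det_apply', Finset.mul_sum, unipotentCharacterGL,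
      Finset.sum_mul]
    refine Finset.sum_congr rfl fun κ _ => ?_
    simp only [Matrix.transpose_apply, Matrix.of_apply]
    split_ifs with h
    · have h1 := flag_count (F := F) (μ := fun i => ν i + i.val - (κ i).val) (sum_shift hsum h)
      have h2 : fixedPointCharacter (parabolicGL n F fun i => ν i + i.val - (κ i).val) 1 =
          (Nat.card (GL (Fin n) F ⧸ parabolicGL n F fun i => ν i + i.val - (κ i).val) : ℂ) := by
        rw [fixedPointCharacter]
        congr 1
        exact Nat.card_congr (Equiv.subtypeUnivEquiv fun x => one_smul _ x)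
      rw [h2, ← h1, Finset.prod_congr rfl fun (i : Fin n) _ => hff _ _ (h i),
        Finset.prod_mul_distrib, Nat.cast_mul, Nat.cast_prod]
      ring
    · push Not at h
      obtain ⟨i, hi⟩ := h
      rw [Finset.prod_eq_zero (f := fun i => ff (ν i + i.val) (κ i)) (mem_univ i) (hff0 _ _ hi)]
      simp
  have hdet : (Matrix.vandermonde fun i : Fin n => (qInt q (ν i + i.val) : ℂ)).det =
      (q : ℂ) ^ (n * (n - 1) * (n - 2) / 6) *
        (Matrix.of fun i j : Fin n => ff (ν i + i.val) j).det := by
    rw [Matrix.det_eval_matrixOfPolynomials_eq_det_vandermonde _ P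
      (fun i => by rw [Polynomial.natDegree_finsetProd_X_sub_C_eq_card, Finset.card_range])
      (fun i => Polynomial.monic_prod_X_sub_C _ _)]
    simp only [heval]
    rw [← hexp, ← Finset.prod_pow_eq_pow_sum]
    exact Matrix.det_mul_row _ _
  have hfilter : ∀ i : Fin n, univ.filter (fun j : Fin n => i < j) = Finset.Ioi i := fun i => by
    ext; simp
  simp only [hfilter]
  rw [← Matrix.det_vandermonde, hdet, mul_right_comm, hterm]
  ring

theorem unipotent_one_pos {ν : Fin n → ℕ} (hmono : Monotone ν) (hsum : ∑ i, ν i = n) :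
    ∃ r : ℝ, 0 < r ∧ unipotentCharacterGL n F ν 1 = (r : ℂ) := by
  classical
  set q := Fintype.card F with hqdef
  have hq : 0 < q := Fintype.card_pos
  let A : ℝ := (q : ℝ) ^ (n * (n - 1) * (n - 2) / 6) *
    ∏ i : Fin n, (qFact q (ν i + i.val) : ℝ)
  let B : ℝ := (qFact q n : ℝ) * ∏ i : Fin n, ∏ j ∈ univ.filter (fun j : Fin n => i < j),
    ((qInt q (ν j + j.val) : ℝ) - (qInt q (ν i + i.val) : ℝ))
  have hA : 0 < A := mul_pos (pow_pos (by exact_mod_cast hq) _)
    (Finset.prod_pos fun i _ => by exact_mod_cast qFact_pos _ _)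
  have hB : 0 < B := mul_pos (by exact_mod_cast qFact_pos _ _)
    (Finset.prod_pos fun i _ => Finset.prod_pos fun j hj => by
      rw [sub_pos, Nat.cast_lt]
      exact Finset.sum_lt_sum_of_subset (Finset.range_subset_range.mpr
          (strictMono_shift hmono (Finset.mem_filter.mp hj).2).le)
        (Finset.mem_range.mpr (strictMono_shift hmono (Finset.mem_filter.mp hj).2))
        (by simp) (pow_pos hq _) (fun _ _ _ => Nat.zero_le _))
  refine ⟨B / A, div_pos hB hA, ?_⟩
  have h := unipotent_one (F := F) hsum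
  rw [Complex.ofReal_div, eq_div_iff (Complex.ofReal_ne_zero.mpr hA.ne')]
  simp only [A, B, Complex.ofReal_mul, Complex.ofReal_pow, Complex.ofReal_natCast,
    Complex.ofReal_prod, Complex.ofReal_sub]
  rw [← mul_assoc]
  exact h

theorem isIrr_unipotent {ν : Fin n → ℕ} (hmono : Monotone ν) (hsum : ∑ i, ν i = n) :
    IsIrrCharacter (GL (Fin n) F) (unipotentCharacterGL n F ν) := by
  classical
  set χ := unipotentCharacterGL n F ν with hχ
  let T : Equiv.Perm (Fin n) → GL (Fin n) F → ℂ := fun κ =>
    fixedPointCharacter (parabolicGL n F fun i => ν i + i.val - (κ i).val)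
  let P := univ.filter fun κ : Equiv.Perm (Fin n) =>
    (∀ i : Fin n, (κ i).val ≤ ν i + i.val) ∧ Equiv.Perm.sign κ = 1
  let N := univ.filter fun κ : Equiv.Perm (Fin n) =>
    (∀ i : Fin n, (κ i).val ≤ ν i + i.val) ∧ Equiv.Perm.sign κ = -1
  have hsplit : χ = (∑ κ ∈ P, T κ) - ∑ κ ∈ N, T κ := by
    funext g
    simp only [Pi.sub_apply, Finset.sum_apply, P, N, Finset.sum_filter, ← Finset.sum_sub_distrib]
    refine Finset.sum_congr rfl fun κ _ => ?_
    rcases Int.units_eq_one_or (Equiv.Perm.sign κ) with hs | hs <;> simp [hs, T] <;>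
      split_ifs <;> simp
  obtain ⟨mA, hA⟩ := exists_decomposition
    (isCharacter_sum P T fun κ _ => isCharacter_fixedPointCharacter _)
  obtain ⟨mB, hB⟩ := exists_decomposition
    (isCharacter_sum N T fun κ _ => isCharacter_fixedPointCharacter _)
  set c : IrrCharacter (GL (Fin n) F) → ℤ := fun ψ => (mA ψ : ℤ) - (mB ψ : ℤ)
  have hc : χ = ∑ ψ, (c ψ : ℂ) • (ψ : GL (Fin n) F → ℂ) := by
    rw [hsplit, hA, hB, ← Finset.sum_sub_distrib]
    refine Finset.sum_congr rfl fun ψ _ => ?_
    simp [c, sub_smul, Nat.cast_smul_eq_nsmul]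
  have hn1 : classInner χ χ = 1 := by
    rw [hχ, classInner_unipotent hmono hsum hmono hsum, if_pos rfl]
  have hn2 : (∑ ψ, c ψ * c ψ : ℤ) = 1 := by
    have h1 : classInner χ χ = ∑ ψ, (c ψ : ℂ) * c ψ := by
      rw [hc, classInner_sum_left]
      refine Finset.sum_congr rfl fun ψ _ => ?_
      rw [classInner_smul_left, classInner_sum_right]
      simp [classInner_smul_right, irrC_orth]
    rw [hn1] at h1
    exact_mod_cast h1.symm
  obtain ⟨ψ0, -, hψ0⟩ := Finset.exists_ne_zero_of_sum_ne_zero (hn2 ▸ one_ne_zero :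
    (∑ ψ, c ψ * c ψ) ≠ 0)
  rw [← Finset.add_sum_erase _ _ (Finset.mem_univ ψ0)] at hn2
  have hnn : 0 ≤ ∑ x ∈ univ.erase ψ0, c x * c x := Finset.sum_nonneg fun x _ => mul_self_nonneg _
  have hpos : 0 < c ψ0 * c ψ0 := lt_of_le_of_ne (mul_self_nonneg _) hψ0.symm
  have hsq : c ψ0 * c ψ0 = 1 := by omega
  have hrest : ∀ x ∈ univ.erase ψ0, c x = 0 := fun x hx => mul_self_eq_zero.mp
    ((Finset.sum_eq_zero_iff_of_nonneg fun x _ => mul_self_nonneg (c x)).mp (by omega) x hx)
  have hχ0 : χ = (c ψ0 : ℂ) • (ψ0 : GL (Fin n) F → ℂ) := by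
    rw [hc, Finset.sum_eq_single ψ0 (fun x _ hne => by
      rw [hrest x (Finset.mem_erase.mpr ⟨hne, Finset.mem_univ _⟩)]; simp) (by simp)]
  obtain ⟨r, hr, hr1⟩ := unipotent_one_pos (F := F) hmono hsum
  rcases mul_self_eq_one_iff.mp hsq with h | h
  · rw [hχ0, h, Int.cast_one, one_smul]
    exact ψ0.2
  · exfalso
    obtain ⟨d, hd⟩ := charOne_eq_natCast (irr_isCharacter ψ0.2)
    have h1 := congrFun hχ0 1
    rw [hχ, hr1, Pi.smul_apply, h, hd] at h1
    simp at h1
    have h2 : r = -(d : ℝ) := by exact_mod_cast h1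
    have : (0 : ℝ) ≤ d := Nat.cast_nonneg d
    linarith

end Cfsg.Agent.Small.Flags
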